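import Mathlib.RingTheory.DividedPowers.DPMorphism
import Mathlib.Algebra.MvPolynomial.Eval
import Mathlib.RingTheory.Ideal.Quotient.Operations

/-! The divided power envelope as a subquotient of the free ring on the symbols `b` and `j^[n]`. -/

noncomputable section

universe u

open MvPolynomial

namespace Groth.Agent.DPEnv98

variable {A B : Type u} [CommRing A] [CommRing B] [Algebra A B] {I : Ideal A}
  (γ : DividedPowers I) (J : Ideal B)

/-- A divided power ring under `B` compatible with `γ`. -/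
structure Cand : Type (u + 1) where
  C : Type u
  [ring : CommRing C]
  K : Ideal C
  δ : DividedPowers K
  φ : B →+* C
  hA : γ.IsDPMorphism δ (φ.comp (algebraMap A B))
  hJ : J.map φ ≤ K

attribute [instance] Cand.ring

/-- The free ring. -/
abbrev Free : Type u := MvPolynomial (B ⊕ (ℕ × J)) ℤ

variable {γ J}

theorem Cand.mem (c : Cand γ J) (j : J) : c.φ (j : B) ∈ c.K :=
  c.hJ (Ideal.mem_map_of_mem _ j.2)

/-- Evaluation in a candidate. -/
def Cand.ev (c : Cand γ J) : Free J →+* c.C :=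
  eval₂Hom (Int.castRingHom c.C) (Sum.elim c.φ fun p => c.δ.dpow p.1 (c.φ (p.2 : B)))

variable (γ J)

/-- The relations holding in every candidate. -/
def rels : Ideal (Free J) := ⨅ c : Cand γ J, RingHom.ker c.ev

/-- The envelope. -/
abbrev Env : Type u := Free J ⧸ rels γ J

variable {γ J}

/-- Evaluation of the envelope in a candidate. -/
def Cand.evD (c : Cand γ J) : Env γ J →+* c.C :=
  Ideal.Quotient.lift _ c.ev fun _ hx => (iInf_le (fun c : Cand γ J => RingHom.ker c.ev) c) hx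

theorem ext_of_evD {x y : Env γ J} (h : ∀ c : Cand γ J, c.evD x = c.evD y) : x = y := by
  obtain ⟨x, rfl⟩ := Ideal.Quotient.mk_surjective x
  obtain ⟨y, rfl⟩ := Ideal.Quotient.mk_surjective y
  rw [Ideal.Quotient.eq, rels, Submodule.mem_iInf]
  exact fun c => by rw [RingHom.mem_ker, map_sub, sub_eq_zero]; exact h c

variable (γ J)

/-- The structure map. -/
def of : B →+* Env γ J where
  toFun b := Ideal.Quotient.mk _ (X (Sum.inl b))
  map_one' := ext_of_evD fun c => by simp [Cand.evD, Cand.ev]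
  map_mul' a b := ext_of_evD fun c => by simp [Cand.evD, Cand.ev]
  map_zero' := ext_of_evD fun c => by simp [Cand.evD, Cand.ev]
  map_add' a b := ext_of_evD fun c => by simp [Cand.evD, Cand.ev]

/-- The symbol `j^[n]`. -/
def sym (n : ℕ) (j : J) : Env γ J := Ideal.Quotient.mk _ (X (Sum.inr (n, j)))

/-- The divided power ideal of the envelope. -/
def ideal : Ideal (Env γ J) := Ideal.span {x | ∃ n, n ≠ 0 ∧ ∃ j, sym γ J n j = x}

variable {γ J}

@[simp] theorem Cand.evD_of (c : Cand γ J) (b : B) : c.evD (of γ J b) = c.φ b := by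
  simp [of, Cand.evD, Cand.ev]

@[simp] theorem Cand.evD_sym (c : Cand γ J) (n : ℕ) (j : J) :
    c.evD (sym γ J n j) = c.δ.dpow n (c.φ (j : B)) := by
  simp [sym, Cand.evD, Cand.ev]

theorem sym_mem {n : ℕ} (hn : n ≠ 0) (j : J) : sym γ J n j ∈ ideal γ J :=
  Ideal.subset_span ⟨n, hn, j, rfl⟩

theorem of_eq_sym_one (j : J) : of γ J (j : B) = sym γ J 1 j :=
  ext_of_evD fun c => by simp [c.δ.dpow_one (c.mem j)]

theorem of_mem {b : B} (hb : b ∈ J) : of γ J b ∈ ideal γ J := by
  rw [of_eq_sym_one ⟨b, hb⟩]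
  exact sym_mem one_ne_zero _

theorem Cand.evD_mem (c : Cand γ J) {x : Env γ J} (hx : x ∈ ideal γ J) : c.evD x ∈ c.K := by
  have : (ideal γ J) ≤ c.K.comap c.evD := Ideal.span_le.2 (by
    rintro _ ⟨n, hn, j, rfl⟩
    simpa using c.δ.dpow_mem hn (c.mem j))
  exact this hx

theorem exists_dpow {x : Env γ J} (hx : x ∈ ideal γ J) : ∀ m : ℕ, ∃ z,
    (∀ c : Cand γ J, c.evD z = c.δ.dpow m (c.evD x)) ∧ (m ≠ 0 → z ∈ ideal γ J) := by
  classical
  induction hx using Submodule.span_induction with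
  | mem x hx =>
    obtain ⟨n, hn, j, rfl⟩ := hx
    intro m
    refine ⟨(Nat.uniformBell m n : Env γ J) * sym γ J (m * n) j, fun c => ?_, fun hm =>
      Ideal.mul_mem_left _ _ (sym_mem (mul_ne_zero hm hn) j)⟩
    simp [c.δ.dpow_comp hn (c.mem j)]
  | zero =>
    intro m
    rcases eq_or_ne m 0 with rfl | hm
    · exact ⟨1, fun c => by rw [map_one, map_zero, c.δ.dpow_zero c.K.zero_mem],
        fun h => (h rfl).elim⟩
    · exact ⟨0, fun c => by rw [map_zero, DividedPowers.dpow_eval_zero _ hm],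
        fun _ => (ideal γ J).zero_mem⟩
  | add x y hx hy ihx ihy =>
    intro m
    choose zx hzx hzx' using ihx
    choose zy hzy hzy' using ihy
    refine ⟨∑ p ∈ Finset.antidiagonal m, zx p.1 * zy p.2, fun c => ?_, fun hm =>
      Submodule.sum_mem _ fun p hp => ?_⟩
    · rw [map_sum, map_add, c.δ.dpow_add (c.evD_mem hx) (c.evD_mem hy)]
      exact Finset.sum_congr rfl fun p _ => by rw [map_mul, hzx, hzy]
    · rw [Finset.mem_antidiagonal] at hp
      rcases eq_or_ne p.1 0 with h0 | h0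
      · exact Ideal.mul_mem_left _ _ (hzy' _ (by omega))
      · exact Ideal.mul_mem_right _ _ (hzx' _ h0)
  | smul a x hx ih =>
    intro m
    obtain ⟨z, hz, hz'⟩ := ih m
    exact ⟨a ^ m * z, fun c => by
      rw [map_mul, map_pow, hz, smul_eq_mul, map_mul, c.δ.dpow_mul (c.evD_mem hx)],
      fun hm => Ideal.mul_mem_left _ _ (hz' hm)⟩

open Classical in
/-- Divided powers on the envelope. -/
def dp (m : ℕ) (x : Env γ J) : Env γ J :=
  if h : x ∈ ideal γ J then (exists_dpow h m).choose else 0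

theorem Cand.evD_dp (c : Cand γ J) (m : ℕ) {x : Env γ J} (hx : x ∈ ideal γ J) :
    c.evD (dp m x) = c.δ.dpow m (c.evD x) := by
  rw [dp, dif_pos hx]
  exact (exists_dpow hx m).choose_spec.1 c

theorem dp_mem {m : ℕ} (hm : m ≠ 0) {x : Env γ J} (hx : x ∈ ideal γ J) : dp m x ∈ ideal γ J := by
  rw [dp, dif_pos hx]
  exact (exists_dpow hx m).choose_spec.2 hm

variable (γ J)

/-- The divided power structure. -/
def dividedPowers : DividedPowers (ideal γ J) where
  dpow := dp
  dpow_null hx := dif_neg hx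
  dpow_zero hx := ext_of_evD fun c => by rw [c.evD_dp 0 hx, c.δ.dpow_zero (c.evD_mem hx), map_one]
  dpow_one hx := ext_of_evD fun c => by rw [c.evD_dp 1 hx, c.δ.dpow_one (c.evD_mem hx)]
  dpow_mem hn hx := dp_mem hn hx
  dpow_add hx hy := ext_of_evD fun c => by
    rw [c.evD_dp _ ((ideal γ J).add_mem hx hy), map_add, c.δ.dpow_add (c.evD_mem hx) (c.evD_mem hy),
      map_sum]
    exact Finset.sum_congr rfl fun p _ => by rw [map_mul, c.evD_dp _ hx, c.evD_dp _ hy]
  dpow_mul {n a x} hx := ext_of_evD fun c => by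
    rw [c.evD_dp _ (Ideal.mul_mem_left _ a hx), map_mul, map_mul, map_pow, c.evD_dp _ hx,
      c.δ.dpow_mul (c.evD_mem hx)]
  mul_dpow {m n x} hx := ext_of_evD fun c => by
    rw [map_mul, map_mul, map_natCast, c.evD_dp _ hx, c.evD_dp _ hx, c.evD_dp _ hx,
      c.δ.mul_dpow (c.evD_mem hx)]
  dpow_comp {m n x} hn hx := ext_of_evD fun c => by
    rw [c.evD_dp _ (dp_mem hn hx), c.evD_dp _ hx, map_mul, map_natCast, c.evD_dp _ hx,
      c.δ.dpow_comp hn (c.evD_mem hx)]

theorem isDPMorphism_comp (hIJ : I.map (algebraMap A B) ≤ J) :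
    γ.IsDPMorphism (dividedPowers γ J) ((of γ J).comp (algebraMap A B)) where
  ideal_comp := by
    rw [← Ideal.map_map, Ideal.map_le_iff_le_comap]
    exact fun b hb => of_mem (hIJ hb)
  dpow_comp {n} a ha := ext_of_evD fun c => by
    have h : of γ J (algebraMap A B a) ∈ ideal γ J := of_mem (hIJ (Ideal.mem_map_of_mem _ ha))
    show c.evD (dp n (of γ J (algebraMap A B a))) = _
    rw [c.evD_dp _ h, Cand.evD_of, RingHom.comp_apply, Cand.evD_of]
    exact c.hA.dpow_comp a ha

theorem existsUnique (c : Cand γ J) :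
    ∃! χ : Env γ J →+* c.C, χ.comp (of γ J) = c.φ ∧ (dividedPowers γ J).IsDPMorphism c.δ χ := by
  refine ⟨c.evD, ⟨RingHom.ext c.evD_of, ⟨?_, fun x hx => (c.evD_dp _ hx).symm⟩⟩, ?_⟩
  · rw [Ideal.map_le_iff_le_comap]
    exact fun x hx => c.evD_mem hx
  rintro χ ⟨hχ, hdp⟩
  refine Ideal.Quotient.ringHom_ext (MvPolynomial.ringHom_ext (fun z => by simp) fun i => ?_)
  rcases i with b | ⟨n, j⟩
  · exact (RingHom.congr_fun hχ b).trans (c.evD_of b).symm
  · show χ (sym γ J n j) = c.evD (sym γ J n j)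
    have e : sym γ J n j = (dividedPowers γ J).dpow n (of γ J (j : B)) :=
      ext_of_evD fun d => by
        show _ = d.evD (dp n _)
        rw [d.evD_dp _ (of_mem j.2), Cand.evD_sym, Cand.evD_of]
    rw [Cand.evD_sym, e, ← hdp.dpow_comp _ (of_mem j.2), ← RingHom.comp_apply, hχ]

end Groth.Agent.DPEnv98
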